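import Groth.Agent.CohBase.Leray

/-!
# Degree one Čech cohomology

The comparison with the first cohomology holds as soon as the first cohomology vanishes on every member of the
cover; the intersections need not be acyclic.
-/

universe u

open CategoryTheory CategoryTheory.Limits Opposite TopologicalSpace
open Groth.Agent.CohBase

namespace Groth.Agent.DefoCechLib

variable {X : Type u} [TopologicalSpace X] {ι : Type u} (U : ι → Opens X)

/-- The inductive step. -/
theorem comparison_step_of_surjective {F : AbSh X} (p : ℕ)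
    (hsurj : Function.Surjective (ccMap U (injSeq F).g.hom p))
    (ΦQ : Zc U (injSeq F).X₃.obj p →+ HU (⊤ : Opens X) (injSeq F).X₃ p)
    (hΦs : Function.Surjective ΦQ)
    (hH : ∀ z, hδ (injSeq_shortExact F) ⊤ p (ΦQ z) = 0 ↔
      ∃ a, cdiff U (injSeq F).X₂.obj p a = 0 ∧ ccMap U (injSeq F).g.hom p a = z.1) :
    HasComparison U F (p + 1) := by
  have hS := injSeq_shortExact F
  let S := injSeq F
  let M : AddSubgroup (CC U S.X₂.obj p) :=
    ((cdiff U S.X₃.obj p).comp (ccMap U S.g.hom p)).ker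
  let toQ : M →+ Zc U S.X₃.obj p :=
    ((ccMap U S.g.hom p).comp M.subtype).codRestrict _ fun e => e.2
  have hfac : ∀ e : M, ∃ t, ccMap U S.f.hom (p + 1) t = cdiff U S.X₂.obj p e.1 := fun e =>
    ccMap_exact U hS _ (by rw [← cdiff_ccMap]; exact e.2)
  choose t ht using hfac
  have htc : ∀ e, cdiff U S.X₁.obj (p + 1) (t e) = 0 := fun e =>
    ccMap_injective U hS _ (by rw [← cdiff_ccMap, ht, cdiff_cdiff, map_zero])
  let π : M →+ Zc U F.obj (p + 1) := AddMonoidHom.mk' (fun e => ⟨t e, htc e⟩) fun a b =>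
    Subtype.ext (ccMap_injective U hS _ (by
      change ccMap U S.f.hom _ (t (a + b)) = ccMap U S.f.hom _ (t a + t b)
      rw [map_add, ht, ht, ht]
      exact map_add _ _ _))
  have hπ : Function.Surjective π := fun z => by
    obtain ⟨e, he⟩ := injective_cexact U S.X₂ p (ccMap U S.f.hom (p + 1) z.1) (by
      rw [cdiff_ccMap, show cdiff U S.X₁.obj (p + 1) z.1 = 0 from z.2, map_zero])
    have hm : e ∈ M := by
      change cdiff U S.X₃.obj p (ccMap U S.g.hom p e) = 0
      rw [cdiff_ccMap, he, ccMap_comp U hS]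
    exact ⟨⟨e, hm⟩, Subtype.ext (ccMap_injective U hS _ ((ht ⟨e, hm⟩).trans he))⟩
  haveI := subsingleton_of_injective (⊤ : Opens X) S.X₂ p
  let φ : M →+ HU (⊤ : Opens X) F (p + 1) := (hδ hS ⊤ p).comp (ΦQ.comp toQ)
  have htoQ : Function.Surjective toQ := fun z => by
    obtain ⟨e, he⟩ := hsurj z.1
    exact ⟨⟨e, show cdiff U S.X₃.obj p (ccMap U S.g.hom p e) = 0 by rw [he]; exact z.2⟩,
      Subtype.ext he⟩
  have hφs : Function.Surjective φ := (hδ_surjective hS ⊤ p).comp (hΦs.comp htoQ)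
  have hker : ∀ e : M, φ e = 0 ↔ ∃ b, cdiff U S.X₁.obj p b = t e := by
    intro e
    refine (hH (toQ e)).trans ⟨fun ⟨a, ha, hga⟩ => ?_, fun ⟨b, hb⟩ => ?_⟩
    · change ccMap U S.g.hom p a = ccMap U S.g.hom p e.1 at hga
      obtain ⟨b, hb⟩ := ccMap_exact U hS (e.1 - a) (by rw [map_sub, hga, sub_self])
      refine ⟨b, ccMap_injective U hS _ ?_⟩
      rw [← cdiff_ccMap, hb, map_sub, ha, sub_zero, ht]
    · refine ⟨e.1 - ccMap U S.f.hom p b, ?_, ?_⟩
      · rw [map_sub, cdiff_ccMap]
        erw [hb]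
        rw [ht, sub_self]
      · rw [map_sub, ccMap_comp U hS, sub_zero]
        rfl
  obtain ⟨ψ, hψ⟩ := addMonoidHom_descend π hπ φ fun e he => (hker e).mpr
    ⟨0, by rw [map_zero]; exact (congrArg Subtype.val he).symm⟩
  refine ⟨ψ, fun y => ?_, fun z => ?_⟩
  · obtain ⟨e, rfl⟩ := hφs y
    exact ⟨π e, hψ e⟩
  · obtain ⟨e, rfl⟩ := hπ z
    rw [hψ]
    exact hker e

/-- Degree one only needs the vanishing of the first cohomology on the members of the cover. -/
theorem hasComparison_one (hcov : ⊤ ≤ iSup U) {F : AbSh X}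
    (h1 : ∀ i : Fin 1 → ι, Subsingleton (HU (inter U i) F 1)) : HasComparison U F 1 := by
  have hsurj : Function.Surjective (ccMap U (injSeq F).g.hom 0) := fun c => by
    have : ∀ i, ∃ e, (injSeq F).g.hom.app _ e = c i := fun i => by
      haveI : Subsingleton (HU (inter U i) (injSeq F).X₁ 1) := h1 i
      exact sections_surjective (injSeq_shortExact F) (inter U i) (c i)
    choose e he using this
    exact ⟨e, funext he⟩
  have hS := injSeq_shortExact F
  refine comparison_step_of_surjective U 0 hsurj (Φ0 U _ hcov).toAddMonoidHom (Φ0 U _ hcov).surjective fun z => ?_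
  obtain ⟨s, rfl⟩ := (eps_bijective U (injSeq F).X₃ hcov).2 z
  rw [AddEquiv.coe_toAddMonoidHom, Φ0_eps, hδ_eq_zero_iff]
  constructor
  · rintro ⟨y, hy⟩
    refine ⟨aug U _ (fun _ => le_top) (H0Equiv ⊤ _ y), cdiff_aug _ _ _, ?_⟩
    have h := congrArg (H0Equiv ⊤ (injSeq F).X₃) hy
    rw [H0Equiv_hmap, AddEquiv.apply_symm_apply] at h
    funext i
    rw [← h]
    exact (res_map (injSeq F).g.hom _ _).symm
  · rintro ⟨a, ha, hga⟩
    obtain ⟨r, hr⟩ := aug_exact (injSeq F).X₂ (fun _ => le_top) hcov a ha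
    refine ⟨(H0Equiv ⊤ _).symm r, ?_⟩
    apply (H0Equiv ⊤ (injSeq F).X₃).injective
    rw [H0Equiv_hmap, AddEquiv.apply_symm_apply, AddEquiv.apply_symm_apply]
    refine aug_injective (U := U) (injSeq F).X₃ (fun _ => le_top) hcov ?_
    refine Eq.trans ?_ hga
    rw [← hr]
    funext i
    exact res_map (injSeq F).g.hom _ _

/-- Čech cohomology computes cohomology for an acyclic covering. -/
theorem cechH_iso_of_hasComparison {F : AbSh X} (p : ℕ) (h : HasComparison U F p) :
    Nonempty (↑((cK U F.obj).homology p) ≃+ Sheaf.H.{u} F p) := by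
  obtain ⟨Φ, hs, hk⟩ := h
  let T := (cK U F.obj).sc p
  have hg : ∀ x : (cK U F.obj).X p, T.g x = 0 ↔ cdiff U F.obj p ((cIso U F.obj p).hom x) = 0 := by
    intro x
    obtain h : (ComplexShape.up ℕ).next p = p + 1 := CochainComplex.next ℕ p
    change (cK U F.obj).d p ((ComplexShape.up ℕ).next p) x = 0 ↔ _
    rw [h, ← cIso_d, map_eq_zero_iff _ (cIso_injective U F.obj (p + 1))]
  let θ : T.g.hom.ker →+ Zc U F.obj p :=
    ((cIso U F.obj p).hom.hom.comp (AddMonoidHom.ker T.g.hom).subtype).codRestrict _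
      fun x => (hg x.1).mp x.2
  have hθ : Function.Bijective θ := by
    refine ⟨fun a b h => Subtype.ext (cIso_injective U F.obj p (congrArg Subtype.val h)), fun z => ?_⟩
    obtain ⟨x, hx⟩ := cIso_surjective U F.obj p z.1
    exact ⟨⟨x, (hg x).mpr (by rw [hx]; exact z.2)⟩, Subtype.ext hx⟩
  have hker : (Φ.comp θ).ker = T.abToCycles.range := by
    ext x
    rw [AddMonoidHom.mem_ker, AddMonoidHom.comp_apply, hk]
    change (cIso U F.obj p).hom x.1 ∈ Bc U F.obj p ↔ _
    rw [AddMonoidHom.mem_range]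
    cases p with
    | zero =>
      have hz : T.f = 0 := (cK U F.obj).shape _ _ (by simp)
      change (cIso U F.obj 0).hom x.1 = 0 ↔ _
      constructor
      · exact fun h => ⟨0, Subtype.ext ((map_zero _).trans
          (cIso_injective U F.obj 0 (h.trans (map_zero _).symm)).symm)⟩
      · rintro ⟨y, rfl⟩
        change (cIso U F.obj 0).hom (T.f y) = 0
        rw [hz]
        exact map_zero _
    | succ p =>
      obtain h : (ComplexShape.up ℕ).prev (p + 1) = p := CochainComplex.prev_nat_succ p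
      have key : (∃ y, T.f y = x.1) ↔ ∃ b, (cK U F.obj).d p (p + 1) b = x.1 := by
        change (∃ y, (cK U F.obj).d ((ComplexShape.up ℕ).prev (p + 1)) (p + 1) y = x.1) ↔ _
        rw [h]
      constructor
      · rintro ⟨b, hb⟩
        obtain ⟨y, rfl⟩ := cIso_surjective U F.obj p b
        rw [← cIso_d] at hb
        obtain ⟨w, hw⟩ := key.mpr ⟨y, cIso_injective U F.obj _ hb⟩
        exact ⟨w, Subtype.ext hw⟩
      · rintro ⟨w, rfl⟩
        obtain ⟨y, hy⟩ := key.mp ⟨w, rfl⟩
        exact ⟨(cIso U F.obj p).hom y, by rw [← cIso_d, hy]⟩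
  exact ⟨((T.abHomologyIso.addCommGroupIsoToAddEquiv.trans
    (QuotientAddGroup.quotientAddEquivOfEq hker.symm)).trans
    (QuotientAddGroup.quotientKerEquivOfSurjective (Φ.comp θ) (hs.comp hθ.2))).trans
    (HEquiv F p).symm⟩

end Groth.Agent.DefoCechLib
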