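import Groth.Agent.DefoCechLib.CechOne
import Groth.Agent.CohBase.Affine
import Groth.Agent.InfLiftLib.Torsor
import Groth.Agent.S12483
import Groth.Agent.S17435
import Groth.Agent.PullbackMod.LocFree
import Groth.Agent.HomLib.Basic

/-!
# First-order deformations of a vector bundle and Čech classes
-/

set_option autoImplicit false
set_option backward.isDefEq.respectTransparency false
set_option linter.style.haveILetI false

universe u

open CategoryTheory CategoryTheory.Limits AlgebraicGeometry TopologicalSpace Opposite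
open Groth.Agent Groth.Agent.CohBase

noncomputable section

namespace Groth.Agent.DefoCechLib

variable {k : Type u} [Field k] {X : Scheme.{u}} [X.Over (Spec (CommRingCat.of k))]

theorem nonempty_firstOrder_equiv_ext [HasExt.{u} X.Modules] (E : X.Modules) :
    Nonempty (DefoSh.FirstOrder k E ≃ Abelian.Ext E E 1) := by
  refine ⟨Equiv.ofBijective (Quotient.lift (fun D : DefoSh.Defo E (ArtFun.Art.dual k k) => S17435.classOf D)
    fun D D' ⟨e⟩ => S17435.classOf_congr D D' e) ⟨?_, ?_⟩⟩
  · rintro ⟨D⟩ ⟨D'⟩ h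
    exact Quotient.sound (S17435.classOf_injective D D' h)
  · intro ξ
    obtain ⟨D, hD⟩ := S17435.exists_of_class (k := k) ξ
    exact ⟨D.cl, hD⟩

omit [X.Over (Spec (CommRingCat.of k))] in
theorem nonempty_ext_equiv_HH [HasExt.{u} X.Modules] (E G : X.Modules) (hE : FlatMod.IsFinLocFree E) (p : ℕ) :
    Nonempty (Abelian.Ext E G p ≃ Coh.HH X (RefHull.homSh E G) p) := by
  haveI : Coh.IsQCoh E := (PullbackMod.isQCoh_and_isFP_of_isFinLocFree E hE).1
  haveI := ModTensor.hasSheafHom (O := X.sheaf) E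
  haveI : DCoh.HasSheafHom E := ⟨_, ⟨(ModSite.sheafHomAdj (O := X.sheaf) E).ofNatIsoLeft
    (ModTensor.tensorSymm X.sheaf E)⟩⟩
  obtain ⟨e⟩ := S12483.result X E G hE p
  obtain ⟨i⟩ := InfLiftLib.nonempty_homSh_iso E G
  let F := SheafOfModules.toSheaf X.ringCatSheaf
  let h : Coh.HH X ((DCoh.sheafHom E).obj G) p ≃ Coh.HH X (RefHull.homSh E G) p :=
    { toFun := fun x => Sheaf.H.map (F.map i.hom) p x
      invFun := fun x => Sheaf.H.map (F.map i.inv) p x
      left_inv := fun x => by
        show Sheaf.H.map (F.map i.inv) p (Sheaf.H.map (F.map i.hom) p x) = x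
        rw [← Sheaf.H.map_comp_apply, ← Functor.map_comp, i.hom_inv_id, CategoryTheory.Functor.map_id,
          Sheaf.H.map_id_apply]
      right_inv := fun x => by
        show Sheaf.H.map (F.map i.hom) p (Sheaf.H.map (F.map i.inv) p x) = x
        rw [← Sheaf.H.map_comp_apply, ← Functor.map_comp, i.inv_hom_id, CategoryTheory.Functor.map_id,
          Sheaf.H.map_id_apply] }
  exact ⟨e.toEquiv.trans h⟩

omit [X.Over (Spec (CommRingCat.of k))] in
/-- Degree one Čech cohomology of a quasi-coherent module on any affine cover. -/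
theorem nonempty_HH_equiv_cechH (M : X.Modules) [Coh.IsQCoh M] {ι : Type u} (U : ι → X.Opens)
    (hU : ∀ i, IsAffineOpen (U i)) (hcov : ⨆ i, U i = ⊤) :
    Nonempty (Coh.HH X M 1 ≃ ↑(CohB1.cechH U M 1)) := by
  have h1 : ∀ i : Fin 1 → ι, Subsingleton (HU (inter U i) (Coh.toAb M) 1) := fun i => by
    refine affine_vanishing M ?_ 0
    have h : inter U i = U (i 0) := by simp [inter]
    rw [h]
    exact hU _
  obtain ⟨e⟩ := cechH_iso_of_hasComparison U 1 (hasComparison_one U hcov.ge h1)
  exact ⟨e.symm.toEquiv⟩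

theorem nonempty_firstOrder_equiv_cechH (E : X.Modules) (hE : FlatMod.IsFinLocFree E) {ι : Type u}
    (U : ι → X.Opens) (hU : ∀ i, IsAffineOpen (U i)) (hcov : ⨆ i, U i = ⊤) :
    Nonempty (DefoSh.FirstOrder k E ≃ ↑(CohB1.cechH U (RefHull.homSh E E) 1)) := by
  haveI : IsGrothendieckAbelian.{u} X.Modules :=
    ModTensor.isGrothendieckAbelian_mod (C := TopologicalSpace.Opens X) X.sheaf
  haveI : HasExt.{u} X.Modules := inferInstance
  haveI hq : Coh.IsQCoh E := (PullbackMod.isQCoh_and_isFP_of_isFinLocFree E hE).1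
  haveI : Coh.IsQCoh (RefHull.homSh E E) :=
    HomLib.isQCoh_homSh_of_isFP (PullbackMod.isQCoh_and_isFP_of_isFinLocFree E hE).2 hq
  obtain ⟨e₁⟩ := nonempty_firstOrder_equiv_ext (k := k) E
  obtain ⟨e₂⟩ := nonempty_ext_equiv_HH E E hE 1
  obtain ⟨e₃⟩ := nonempty_HH_equiv_cechH (RefHull.homSh E E) U hU hcov
  exact ⟨(e₁.trans e₂).trans e₃⟩

end Groth.Agent.DefoCechLib
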